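import Groth.Agent.L22.Cyc.BaseChange
import Groth.Agent.L22.Cyc.Setup
import Groth.Agent.L22.Bundle.Sub
import Groth.Agent.L22.C1.GysinBC
import Groth.Agent.L22.SubBundle.Ops
import Groth.Agent.L07.SyntOverField
import Groth.Agent.L21.RefK.Chi

/-!
Exterior products with a cycle that is rationally equivalent to zero.
-/

set_option autoImplicit false
set_option linter.style.haveILetI false
set_option linter.unusedSectionVars false
set_option maxHeartbeats 1600000
set_option backward.isDefEq.respectTransparency.types false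
set_option backward.isDefEq.respectTransparency false

universe u

open CategoryTheory CategoryTheory.Limits AlgebraicGeometry TopologicalSpace
open Groth.L22.Cyc (rtrdeg FibGen)
open Groth.L22.Chern (pullC pullC_apply pushC ratGroup Shift)

noncomputable section

namespace Groth.L22.ExtProd

variable {K : Type u} [Field K] {P X Y : Scheme.{u}} {q1 : P ⟶ X} {q2 : P ⟶ Y} {f : X ⟶ Spec (CommRingCat.of K)}
  {g : Y ⟶ Spec (CommRingCat.of K)} [LocallyOfFiniteType f] [LocallyOfFiniteType g]

theorem length_of_surjective {A B : Type u} [CommRing A] [CommRing B] (φ : A →+* B) (hφ : Function.Surjective φ)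
    (J : Ideal A) (hJ : RingHom.ker φ ≤ J) :
    Module.length B (B ⧸ J.map φ) = Module.length A (A ⧸ J) := by
  letI := φ.toAlgebra
  rw [← Module.length_eq_of_surjective (R := B) (S := A) (M := B ⧸ J.map φ) hφ]
  let ψ : A →ₐ[A] B ⧸ J.map φ := (Ideal.Quotient.mkₐ A (J.map φ)).comp (Algebra.ofId A B)
  have hker : RingHom.ker ψ = J := by
    refine Ideal.ext fun a => ?_
    rw [RingHom.mem_ker]
    show Ideal.Quotient.mk (J.map φ) (φ a) = 0 ↔ _
    rw [Ideal.Quotient.eq_zero_iff_mem, ← Ideal.mem_comap, Ideal.comap_map_of_surjective φ hφ, ← RingHom.ker_eq_comap_bot,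
      sup_eq_left.2 hJ]
  exact (((Ideal.quotientEquivAlgOfEq A hker).symm.trans (Ideal.quotientKerAlgEquivOfSurjective (f := ψ)
    (Ideal.Quotient.mk_surjective.comp hφ))).toLinearEquiv.length_eq).symm

/-- The exterior product of a cycle rationally equivalent to zero with a cycle is rationally zero. -/
theorem rat_of_left (sq : IsPullback q1 q2 f g) [CompactSpace Y] {δX : X → ℤ} {δY : Y → ℤ} {δ : P → ℤ}
    (hX : Cyc.DeltaCompat f δX fun _ => 0) (hY : Cyc.DeltaCompat g δY fun _ => 0)
    (hP : Cyc.DeltaCompat (q1 ≫ f) δ fun _ => 0) (r s : ℤ) (α : AlgebraicCycle X ℤ) (β : AlgebraicCycle Y ℤ)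
    (hα : α ∈ Cyc.Zk X δX r) (hβ : β ∈ Cyc.Zk Y δY s) (h0 : Cyc.RatEquivZero δX r α) (γ : AlgebraicCycle P ℤ)
    (hγ : ∀ z, γ z = if δ z = δX (q1 z) + δY (q2 z) then α (q1 z) * β (q2 z) *
      ((Module.length (P.presheaf.stalk z) (↑(P.presheaf.stalk z) ⧸
        ((IsLocalRing.maximalIdeal (X.presheaf.stalk (q1 z))).map (q1.stalkMap z).hom ⊔
          (IsLocalRing.maximalIdeal (Y.presheaf.stalk (q2 z))).map (q2.stalkMap z).hom))).toNat : ℤ) else 0) :
    Cyc.RatEquivZero δ (r + s) γ := by
  classical
  haveI : LocallyOfFiniteType q1 := MorphismProperty.of_isPullback sq.flip ‹LocallyOfFiniteType g›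
  have hk := Groth.L21.RefK.isSetup_spec_field K
  obtain ⟨δX', hXs, e1⟩ := Groth.L22.Cyc.exists_setup f hk
  obtain rfl := Groth.L22.Bundle.delta_unique e1 hX
  obtain ⟨δY', hYs, e2⟩ := Groth.L22.Cyc.exists_setup g hk
  obtain rfl := Groth.L22.Bundle.delta_unique e2 hY
  obtain ⟨δP', hPs, e3⟩ := Groth.L22.Cyc.exists_setup (q1 ≫ f) hk
  obtain rfl := Groth.L22.Bundle.delta_unique e3 hP
  haveI := hXs.1
  haveI := hYs.1
  haveI := hPs.1
  have one : ∀ w : Y, δY' w = s → ∃ Gw : AlgebraicCycle P ℤ, Gw ∈ ratGroup hPs.2.2 (r + s) ∧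
      ∀ z, Gw z = if δP' z = δX' (q1 z) + δY' (q2 z) ∧ q2 z = w then α (q1 z) *
        ((Module.length (P.presheaf.stalk z) (↑(P.presheaf.stalk z) ⧸
          ((IsLocalRing.maximalIdeal (X.presheaf.stalk (q1 z))).map (q1.stalkMap z).hom ⊔
            (IsLocalRing.maximalIdeal (Y.presheaf.stalk (q2 z))).map (q2.stalkMap z).hom))).toNat : ℤ) else 0 := by
    intro w hw
    let W := Groth.L22.Cyc.clSub w
    let ι : W ⟶ Y := Groth.L22.Cyc.clι w
    haveI : IsLocallyNoetherian W := Groth.L22.Cyc.isLocallyNoetherian_clSub w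
    let j : pullback q2 ι ⟶ P := pullback.fst q2 ι
    let qW : pullback q2 ι ⟶ W := pullback.snd q2 ι
    haveI : IsLocallyNoetherian (pullback q2 ι) := LocallyOfFiniteType.isLocallyNoetherian j
    have sqW : IsPullback (j ≫ q1) qW f (ι ≫ g) := ((IsPullback.of_hasPullback q2 ι).flip.paste_vert sq.flip).flip
    haveI : Flat (ι ≫ g) := Groth.L07.SyntOverField.flat_over_field (ι ≫ g)
    haveI : Flat (j ≫ q1) := MorphismProperty.of_isPullback sqW.flip ‹Flat (ι ≫ g)›
    haveI : LocallyOfFiniteType (j ≫ q1) := inferInstance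
    let δj : ↥(pullback q2 ι) → ℤ := fun z => δP' (j z)
    have hdj : Cyc.IsDimFun (pullback q2 ι) δj := Groth.L22.Cyc.isDimFun_closedImmersion j hPs.2.2
    have hc : Cyc.DeltaCompat (j ≫ q1) δj δX' := Groth.L22.Bundle.deltaCompat_cancel (j ≫ q1) f
      (by rw [Category.assoc]; exact Groth.L22.Bundle.deltaCompat_comp j (q1 ≫ f) hP) hX
    have hgen : ∀ z, FibGen (j ≫ q1) z → qW z = genericPoint W := fun z hz => by
      have h := Groth.L22.Cyc.FibGen.of_baseChange sqW.flip hz
      exact (h (genericPoint W) (Subsingleton.elim (α := PrimeSpectrum K) _ _) (genericPoint_specializes _)).symm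
    have hsh : Shift (j ≫ q1) δj δX' s := fun z hz => by
      obtain ⟨n, hn, hd⟩ := hc z
      obtain ⟨m, hm, hdm⟩ := Groth.L22.Bundle.deltaCompat_comp ι g hY (genericPoint W)
      have e := Groth.L22.Cyc.rtrdeg_baseChange sqW.flip hz
      rw [hgen z hz, show rtrdeg (ι ≫ g) (genericPoint W) = (m : Cardinal.{u}) from hm,
        show rtrdeg (j ≫ q1) z = (n : Cardinal.{u}) from hn] at e
      have hnm : n = m := by exact_mod_cast e
      replace hdm : δY' (ι (genericPoint W)) = (0 : ℤ) + m := hdm
      rw [show ι (genericPoint W) = w from Groth.L22.Cyc.clι_genericPoint w, hw] at hdm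
      rw [hd, hnm]
      omega
    refine ⟨pushC j δj δP' (pullC (j ≫ q1) hsh α), Groth.L22.Chern.pushC_rat j hdj hPs.2.2
      (Groth.L22.C1.deltaCompat_closedImmersion j δP') (Groth.L22.Chern.pullC_rat (j ≫ q1) hsh hdj hXs.2.2 h0), fun z => ?_⟩
    by_cases hz : z ∈ Set.range j
    swap
    · rw [Groth.L22.SubBundle.pushC_outside j δP' _ hz, if_neg]
      rintro ⟨-, h⟩
      exact hz ((Scheme.Pullback.range_fst q2 ι).ge
        (show q2 z ∈ Set.range ι by rw [h]; exact ⟨_, Groth.L22.Cyc.clι_genericPoint w⟩))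
    obtain ⟨t, rfl⟩ := hz
    rw [Groth.L22.SubBundle.pushC_apply_closed, pullC_apply]
    have hq : q2 (j t) = ι (qW t) := congrArg (fun m : pullback q2 ι ⟶ Y => m t) pullback.condition
    by_cases hg : qW t = genericPoint W
    swap
    · rw [Groth.L22.Cyc.mult_eq_top fun h => hg (hgen t h), if_neg]
      · simp
      · rintro ⟨-, h⟩
        exact hg (ι.isClosedEmbedding.injective (hq.symm.trans (h.trans (Groth.L22.Cyc.clι_genericPoint w).symm)))
    have hqw : q2 (j t) = w := by rw [hq, hg]; exact Groth.L22.Cyc.clι_genericPoint w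
    have hlen : Groth.L22.Cyc.mult (j ≫ q1) t = Module.length (P.presheaf.stalk (j t)) (↑(P.presheaf.stalk (j t)) ⧸
        ((IsLocalRing.maximalIdeal (X.presheaf.stalk (q1 (j t)))).map (q1.stalkMap (j t)).hom ⊔
          (IsLocalRing.maximalIdeal (Y.presheaf.stalk (q2 (j t)))).map (q2.stalkMap (j t)).hom)) := by
      have hη : Groth.L20.SeeNormal.sI ι.ker (ι (qW t)) = IsLocalRing.maximalIdeal (Y.presheaf.stalk (ι (qW t))) := by
        rw [← Groth.L20.Infinitesimal.ker_stalkMap]
        have hf : IsField (W.presheaf.stalk (qW t)) := by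
          rw [hg]
          exact Field.toIsField W.functionField
        exact IsLocalRing.eq_maximalIdeal
          (Ideal.Quotient.maximal_of_isField _ ((RingHom.quotientKerEquivOfSurjective (ι.stalkMap_surjective (qW t))).toMulEquiv.isField hf))
      have hker : RingHom.ker (j.stalkMap t).hom =
          (IsLocalRing.maximalIdeal (Y.presheaf.stalk (q2 (j t)))).map (q2.stalkMap (j t)).hom := by
        rw [Groth.L22.C1.ker_stalkMap_fst]
        refine congrArg (Ideal.map _) ?_
        show Groth.L20.SeeNormal.sI ι.ker (q2 (j t)) = IsLocalRing.maximalIdeal (Y.presheaf.stalk (q2 (j t)))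
        rw [hq, hη]
      rw [← length_of_surjective (j.stalkMap t).hom (j.stalkMap_surjective t) _ (hker.le.trans le_sup_right),
        Ideal.map_sup, ← hker, (Ideal.map_eq_bot_iff_le_ker _).2 le_rfl, sup_bot_eq, Ideal.map_map,
        Groth.L22.Cyc.mult, Groth.L22.Cyc.fibIdeal, Scheme.Hom.stalkMap_comp]
      rfl
    by_cases hd : δP' (j t) = δX' (q1 (j t)) + δY' (q2 (j t))
    · rw [if_pos ⟨hd, hqw⟩, hlen]
      rfl
    · rw [if_neg fun h => hd h.1, Groth.L22.Cyc.mult_eq_top fun h => hd ?_]
      · simp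
      · have h' := hsh t h
        rw [hqw, hw]
        exact h'
  choose G hG hGv using one
  have hfin : (Function.support ⇑β).Finite :=
    Set.univ_inter (Function.support ⇑β) ▸ β.locallyFiniteSupport.finite_inter_support_of_isCompact isCompact_univ
  let F : Y → AlgebraicCycle P ℤ := fun w => if h : δY' w = s then β w • G w h else 0
  have hsum : γ = ∑ w ∈ hfin.toFinset, F w := by
    refine Function.locallyFinsuppWithin.ext fun z => ?_
    have hs : ∀ T : Finset Y, (∑ w ∈ T, F w) z = ∑ w ∈ T, F w z := fun T => by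
      induction T using Finset.induction_on with
      | empty => rfl
      | insert c T hcT ih =>
        rw [Finset.sum_insert hcT, Finset.sum_insert hcT, Function.locallyFinsuppWithin.coe_add, Pi.add_apply, ih]
    rw [hs, hγ, Finset.sum_eq_single (q2 z) (fun w _ hw => ?_) fun hy => ?_]
    · by_cases h : δY' (q2 z) = s
      · simp only [F, dif_pos h, Function.locallyFinsuppWithin.coe_zsmul, Pi.smul_apply, hGv, smul_eq_mul, and_true,
          mul_ite, mul_zero]
        split_ifs
        · ring
        · rfl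
      · simp only [F, dif_neg h, hβ _ h, mul_zero, zero_mul, ite_self]
        rfl
    · by_cases h : δY' w = s
      · simp only [F, dif_pos h, Function.locallyFinsuppWithin.coe_zsmul, Pi.smul_apply, hGv, smul_eq_mul]
        rw [if_neg fun h' => hw h'.2.symm, mul_zero]
      · simp only [F, dif_neg h]
        rfl
    · rw [Set.Finite.mem_toFinset, Function.mem_support, ne_eq, not_not] at hy
      by_cases h : δY' (q2 z) = s
      · simp only [F, dif_pos h, hy, zero_smul]
        rfl
      · simp only [F, dif_neg h]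
        rfl
  have hmem : γ ∈ ratGroup hPs.2.2 (r + s) := by
    rw [hsum]
    refine (ratGroup hPs.2.2 (r + s)).sum_mem fun w _ => ?_
    by_cases h : δY' w = s
    · simp only [F, dif_pos h]
      exact (ratGroup hPs.2.2 (r + s)).zsmul_mem (hG w h) _
    · simp only [F, dif_neg h]
      exact zero_mem _
  exact hmem

end Groth.L22.ExtProd
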